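import Groth.Agent.Lib.Quot16.Diag
import Groth.Agent.Lib.Gabber15.QuasiAffineDesc

/-! The diagonal of the fppf quotient stack `[X/G]`. -/

universe u

open CategoryTheory CategoryTheory.Limits MonoidalCategory CartesianMonoidalCategory MonObj GrpObj
  AlgebraicGeometry

set_option linter.style.haveILetI false
set_option linter.unusedSectionVars false
set_option backward.isDefEq.respectTransparency false
set_option backward.isDefEq.respectTransparency.types false

namespace Groth.Agent.StQuotDiag14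

open AlgSt
open FC16 hiding overMap
open StAlg Quot16

variable {S : Scheme.{u}}

theorem pbP_isQuasiAffineMor : PbP (S := S) AlgSp.IsQuasiAffineMor := by
  intro X₁ Y₁ X₂ Y₂ _ _ _ _ a b a' b' sq h Z hZ g
  obtain ⟨W, i, fst', sqW, hW⟩ := h hZ (g ≫ b)
  refine ⟨W, i, sq.lift fst' ((AlgSp.yon S).map i ≫ g) (by rw [Category.assoc, sqW.w]), ?_, hW⟩
  exact IsPullback.of_right (by rw [sq.lift_fst]; exact sqW) (sq.lift_snd _ _ _) sq

/-- quasi-affineness of `h_f` for a quasi-compact immersion followed by an affine morphism -/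
theorem isQuasiAffineMor_yon_of_factor {A C B : Over S} (f : A ⟶ B) (j : A.left ⟶ C.left) (k : C.left ⟶ B.left)
    (hf : j ≫ k = f.left) [IsImmersion j] [QuasiCompact j] [IsAffineHom k] :
    AlgSp.IsQuasiAffineMor ((AlgSp.yon S).map f) := by
  intro Z hZ g
  obtain ⟨g', rfl⟩ := (AlgSp.yon S).map_surjective g
  refine ⟨pullback f g', pullback.snd f g', (AlgSp.yon S).map (pullback.fst f g'),
    (IsPullback.of_hasPullback f g').map (AlgSp.yon S), ?_⟩
  have hp : IsPullback (pullback.fst f g').left (pullback.snd f g').left f.left g'.left :=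
    (IsPullback.of_hasPullback f g').map (Over.forget S)
  have sk := IsPullback.of_hasPullback k g'.left
  have sj := IsPullback.of_hasPullback j (pullback.fst k g'.left)
  have big := sj.paste_vert sk
  rw [hf] at big
  haveI : IsImmersion (pullback.snd j (pullback.fst k g'.left)) := MorphismProperty.pullback_snd _ _ ‹IsImmersion j›
  haveI : QuasiCompact (pullback.snd j (pullback.fst k g'.left)) :=
    MorphismProperty.pullback_snd _ _ ‹QuasiCompact j›
  haveI : IsAffineHom (pullback.snd k g'.left) := MorphismProperty.pullback_snd _ _ ‹IsAffineHom k›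
  haveI : IsAffine Z.left := hZ
  haveI : IsAffine (pullback k g'.left) := isAffine_of_isAffineHom (pullback.snd k g'.left)
  haveI : CompactSpace ↥(pullback j (pullback.fst k g'.left)) :=
    QuasiCompact.compactSpace_of_compactSpace (pullback.snd j (pullback.fst k g'.left))
  haveI := Scheme.IsQuasiAffine.of_isImmersion (pullback.snd j (pullback.fst k g'.left))
  exact QA11.isQuasiAffine_of_iso (hp.isoIsPullback _ _ big).hom

variable {G X : Over S} [GrpObj G] {aX : AlgGrp.Action G X}

theorem whiskerLeft_left_prop {P : MorphismProperty Scheme.{u}} [P.IsStableUnderBaseChange]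
    {W V : Over S} (f : V ⟶ W) (h : P f.left) (A : Over S) : P (A ◁ f).left := by
  have h1 := isPullback_left_unit (G := A) W
  have h2 := isPullback_left_unit (G := A) V
  rw [← whiskerLeft_fst A f, Over.comp_left, ← Over.w f] at h2
  refine MorphismProperty.of_isPullback (IsPullback.of_right h2 ?_ h1).flip h
  rw [← Over.comp_left, ← Over.comp_left, whiskerLeft_snd]

theorem isQuasiAffineMor_lift_act_snd [IsAffineHom G.hom] [QuasiSeparated X.hom] (a : G ⊗ X ⟶ X) :
    AlgSp.IsQuasiAffineMor ((AlgSp.yon S).map (lift a (snd G X))) := by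
  let j := (lift a (𝟙 (G ⊗ X))).left
  let k := (X ◁ snd G X).left
  haveI : IsAffineHom k :=
    whiskerLeft_left_prop (P := @IsAffineHom) _ (snd_left_prop (P := @IsAffineHom) ‹_› X) X
  haveI : QuasiSeparated (snd X (G ⊗ X)).left := snd_left_prop (P := @QuasiSeparated) ‹_› _
  have hj : j ≫ (snd X (G ⊗ X)).left = 𝟙 _ := by rw [← Over.comp_left, lift_snd, Over.id_left]
  haveI : IsImmersion (j ≫ (snd X (G ⊗ X)).left) := by rw [hj]; infer_instance
  haveI : IsImmersion j := IsImmersion.of_comp j (snd X (G ⊗ X)).left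
  haveI : QuasiCompact (j ≫ (snd X (G ⊗ X)).left) := by rw [hj]; infer_instance
  haveI : QuasiCompact j := QuasiCompact.of_comp j (snd X (G ⊗ X)).left
  refine isQuasiAffineMor_yon_of_factor (C := X ⊗ (G ⊗ X)) _ j k ?_
  rw [← Over.comp_left, lift_whiskerLeft, Category.id_comp]

variable (G X aX) in
/-- the diagonal of `[X/G]` is representable -/
theorem rep1_diag_quotSt [IsAffineHom G.hom] [Flat G.hom] [LocallyOfFinitePresentation G.hom] :
    RepByAlgSp1 (FibCat.diag (FibCat.toSelf (QuotSt Scheme.fppfPrecoverage G aX))) := by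
  have hst := isStack_quotSt (G := G) (aX := aX) Scheme.fppfPrecoverage_le_fpqcPrecoverage.{u}
  refine (rep1_diag_iff hst.1).2 fun U y => StAlg16.rep1_of_rep_cover (𝒰 := ofSch X)
    (Stk.isFibGrpd_ofPsh _) hst ⟨⟨_, AlgSp.IsAlgSpace.yon_obj X⟩, BasedFunctor.id _, isEquivOver_id⟩
    (u := quotMap _ G aX) ?_ ?_ ?_ U y
  · exact StAlg16.with_comp_equiv (a := toOverCat X) (g := chartMap Scheme.fppfPrecoverage aX)
      ⟨ofOverCat X, ⟨Iso.refl _⟩, ⟨Iso.refl _⟩⟩ repWith_chartMap_flat
  · exact StAlg16.with_comp_equiv (a := toOverCat X) (g := chartMap Scheme.fppfPrecoverage aX)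
      ⟨ofOverCat X, ⟨Iso.refl _⟩, ⟨Iso.refl _⟩⟩ repWith_chartMap_lfp
  · exact StAlg16.with_comp_equiv (a := toOverCat X) (g := chartMap Scheme.fppfPrecoverage aX)
      ⟨ofOverCat X, ⟨Iso.refl _⟩, ⟨Iso.refl _⟩⟩ repWith_chartMap_surjective

/-- the diagonal of `[X/G]` has `P` iff `(act, pr₂)` has -/
theorem diag_quotSt_iff [IsAffineHom G.hom] [Flat G.hom] [LocallyOfFinitePresentation G.hom]
    {P : MorphismProperty (AlgSp.Sp S)} (hPb : PbP P) (hloc : AlgSp.IsLocalOnBase AlgSp.IsFppfCover P) :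
    RepByAlgSpWith P (FibCat.diag (FibCat.toSelf (QuotSt Scheme.fppfPrecoverage G aX))) ↔
      P ((AlgSp.yon S).map (lift aX.act (snd G X))) := by
  let Q := quotMap Scheme.fppfPrecoverage G aX
  have hg := (isStack_quotSt (G := G) (aX := aX) Scheme.fppfPrecoverage_le_fpqcPrecoverage.{u}).1
  have hz : FibCat.IsFibGrpd (ofSch X).p := Stk.isFibGrpd_ofPsh _
  let t := FibCat.toSelf (QuotSt Scheme.fppfPrecoverage G aX)
  obtain ⟨e, he⟩ := exists_isTwoCartOver_act (K := Scheme.fppfPrecoverage) G X aX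
  let E₀ := FibCat.fpLift (ofSpMap ((AlgSp.yon S).map aX.act)) (ofSpMap ((AlgSp.yon S).map (snd G X))) e
  let h := (AlgSp.yon S).map (lift aX.act (snd G X))
  let C := FibCat.fpLift (F := BasedFunctor.comp Q t) (G := BasedFunctor.comp Q t) (FibCat.fpFst Q Q)
    (FibCat.fpSnd Q Q) (wrIso (FibCat.fpIso Q Q) t)
  let Pr := prodPair X (BasedFunctor.comp Q t)
  let i : BasedFunctor.comp (Stk.ofPshMap h.hom) Pr ≅ BasedFunctor.comp E₀ C :=
    isoToFp (A := BasedFunctor.comp (Stk.ofPshMap h.hom) Pr) (B := BasedFunctor.comp E₀ C)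
      (isoOfPval fun x => by
        simp only [pval]
        congr 1
        apply ULift.ext
        show (x.sec.down ≫ lift aX.act (snd G X)) ≫ fst X X = x.sec.down ≫ aX.act
        rw [Category.assoc, lift_fst])
      (isoOfPval fun x => by
        simp only [pval]
        congr 1
        apply ULift.ext
        show (x.sec.down ≫ lift aX.act (snd G X)) ≫ snd X X = x.sec.down ≫ snd G X
        rw [Category.assoc, lift_snd])
  have hc := with_congr (P := P) (f := C) (f' := Stk.ofPshMap h.hom) (a := E₀) (b := Pr) he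
    (prodPair_isEquivOver X _) i
  constructor
  · intro hd
    have h1 := with_fpFst (pair (Iso.refl (BasedFunctor.comp Q t)) (Iso.refl (BasedFunctor.comp Q t))) hd
    have h2 := hc.1 ((with_cmp_iff (f := Q) (g := Q) (t := t) (wrIso (FibCat.fpIso Q Q) t) (fun _ => rfl)).1 h1)
    exact desc_of_local hloc (AlgSp.IsAlgSpace.yon_obj _) (AlgSp.IsAlgSpace.yon_obj _) h
      (repBySpWith_of_with (preIso_of_pullback hPb) h2)
  · intro hP
    have e1 := fun (R : MorphismProperty (AlgSp.Sp S))
      (hR : RepByAlgSpWith R (chartMap Scheme.fppfPrecoverage aX)) =>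
        StAlg16.with_comp_equiv (a := toOverCat X) (g := chartMap Scheme.fppfPrecoverage aX)
          ⟨ofOverCat X, ⟨Iso.refl _⟩, ⟨Iso.refl _⟩⟩ hR
    have hw₁ : RepByAlgSpWith (AlgSp.LocP @Flat) Q := e1 _ repWith_chartMap_flat
    have hw₂ : RepByAlgSpWith (AlgSp.LocP @LocallyOfFinitePresentation) Q := e1 _ repWith_chartMap_lfp
    have hw₃ : RepByAlgSpWith AlgSp.IsSurjectiveMor Q := e1 _ repWith_chartMap_surjective
    refine with_of_fpFst_cover (z := pair (Iso.refl (BasedFunctor.comp Q t)) (Iso.refl (BasedFunctor.comp Q t)))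
      hPb hloc hg (fp_isFibGrpd hg hg selfOver_isFibGrpd _ _) (fp_isFibGrpd hz hz selfOver_isFibGrpd _ _)
      (rep1_diag_quotSt G X aX)
      (with_fp_map_gen goodP_locP hg selfOver_isFibGrpd t t hz hz hw₁ hw₁)
      (with_fp_map_gen goodP_locP hg selfOver_isFibGrpd t t hz hz hw₂ hw₂)
      (with_fp_map_gen goodP_surjective hg selfOver_isFibGrpd t t hz hz hw₃ hw₃)
      ((with_cmp_iff (f := Q) (g := Q) (t := t) (wrIso (FibCat.fpIso Q Q) t) (fun _ => rfl)).2 (hc.2 ?_))
    exact with_ofPshMap (repBySpWith_of_space hPb (AlgSp.IsAlgSpace.yon_obj _) (AlgSp.IsAlgSpace.yon_obj _) hP)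

theorem isAffineHom_diagonal_of_lift [IsAffineHom G.hom] (a : AlgGrp.Action G X)
    (h : IsAffineHom (lift a.act (snd G X)).left) : IsAffineHom (pullback.diagonal X.hom) := by
  let s : X ⟶ G ⊗ X := (λ_ X).inv ≫ η[G] ▷ X
  have hs₁ : s ≫ a.act = 𝟙 X := by simp [s, a.one_act]
  have hs₂ : s ≫ snd G X = 𝟙 X := by simp [s]
  haveI : IsAffineHom (snd G X).left := snd_left_prop (P := @IsAffineHom) ‹_› X
  haveI : IsClosedImmersion (s.left ≫ (snd G X).left) := by
    rw [← Over.comp_left, hs₂, Over.id_left]; infer_instance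
  haveI : IsClosedImmersion s.left := IsClosedImmersion.of_comp s.left (snd G X).left
  have : IsAffineHom (s ≫ lift a.act (snd G X)).left := by rw [Over.comp_left]; infer_instance
  rw [comp_lift, hs₁, hs₂] at this
  exact this

theorem affine_diag_quotSt_iff [IsAffineHom G.hom] [Flat G.hom] [LocallyOfFinitePresentation G.hom] :
    RepByAlgSpWith AlgSp.IsAffineMor (FibCat.diag (FibCat.toSelf (QuotSt Scheme.fppfPrecoverage G aX))) ↔
      IsAffineHom (pullback.diagonal X.hom) := by
  rw [diag_quotSt_iff pbP_isAffineMor (isLocalOnBase_fppf_of_fpqc AlgSpDescent.isLocalOnBase_fpqc_isAffineMor),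
    AlgSpace.isAffineMor_iff_repWith, AlgSp.repWith_yon_map_iff]
  exact ⟨isAffineHom_diagonal_of_lift aX, fun hX => isAffineHom_lift_act_snd hX aX.act⟩

theorem quasiAffine_diag_quotSt [IsAffineHom G.hom] [Flat G.hom] [LocallyOfFinitePresentation G.hom]
    [QuasiSeparated X.hom] :
    RepByAlgSpWith AlgSp.IsQuasiAffineMor (FibCat.diag (FibCat.toSelf (QuotSt Scheme.fppfPrecoverage G aX))) :=
  (diag_quotSt_iff pbP_isQuasiAffineMor
    (isLocalOnBase_fppf_of_fpqc Gabber15.isLocalOnBase_fpqc_isQuasiAffineMor)).2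
    (isQuasiAffineMor_lift_act_snd aX.act)

end Groth.Agent.StQuotDiag14
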